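import Cfsg.Agent.H537.P1.DeltaA

/-!
# The `P!`-theorem (S3046), Case A, (δ): `|F| = 2` implies `r = 1`
-/

set_option autoImplicit false
set_option linter.unusedSectionVars false

open Cfsg Subgroup
open Cfsg.Agent.H230 Cfsg.Agent.H229 Cfsg.Agent.H247.P1 Cfsg.Agent.H250.P1

namespace Cfsg.Agent.H537.P1

variable {H : Type*} [Group H] {p : ℕ}

/-- `Q ≤ [Q, Q] K`, `Q` a finite `p`-group: `Q ≤ K`. -/
theorem le_of_le_comm_sup [Finite H] [Fact p.Prime] {Q K : Subgroup H} (hQ : IsPGroup p ↥Q) (hK : K ≤ Q)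
    (h : Q ≤ ⁅Q, Q⁆ ⊔ K) : Q ≤ K := by
  by_contra hne
  -- a maximal subgroup of `Q` above `K`
  have hlt : K.subgroupOf Q ≠ ⊤ := by
    intro h1
    exact hne (subgroupOf_eq_top.1 h1)
  obtain ⟨M, hM, hKM⟩ := (eq_top_or_exists_le_coatom (K.subgroupOf Q)).resolve_left hlt
  have : Group.IsNilpotent ↥Q := hQ.isNilpotent
  have hn : M.Normal := Subgroup.NormalizerCondition.normal_of_coatom M Group.normalizerCondition_of_isNilpotent hM
  have h2 : (⊤ : Subgroup ↥Q) ≤ M ⊔ ⁅(⊤ : Subgroup ↥Q), (⊤ : Subgroup ↥Q)⁆ := by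
    have e1 : (⁅(⊤ : Subgroup ↥Q), (⊤ : Subgroup ↥Q)⁆).map Q.subtype = ⁅Q, Q⁆ := by
      rw [map_commutator, ← MonoidHom.range_eq_map, range_subtype]
    have h3 : (⊤ : Subgroup ↥Q).map Q.subtype ≤
        (M ⊔ ⁅(⊤ : Subgroup ↥Q), (⊤ : Subgroup ↥Q)⁆).map Q.subtype := by
      rw [Subgroup.map_sup, e1, ← MonoidHom.range_eq_map, range_subtype, sup_comm]
      refine h.trans (sup_le_sup_left ?_ _)
      intro x hx
      exact ⟨⟨x, hK hx⟩, hKM (mem_subgroupOf.2 hx), rfl⟩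
    exact (map_le_map_iff_of_injective Q.subtype_injective).1 h3
  exact hM.1 (top_le_iff.1 (Lib.Hyperfocal.le_of_le_sup_commutator h2))

variable {S : Sylow p H} {Z C Q P V D J R : Subgroup H} {r : ℕ} {E W : Fin r → Subgroup H}
  {F : Type} [Field F] [Fintype F] {a b : Fin r → H}

theorem centralizer_eq_of_sq {v : H} (hv : v * v = 1) (hv1 : v ≠ 1) :
    normalizer (zpowers v : Set H) = centralizer ({v} : Set H) := by
  apply le_antisymm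
  · intro x hx
    have h1 : x * v * x⁻¹ ∈ zpowers v := (hx v).1 (mem_zpowers v)
    rw [mem_centralizer_singleton_iff]
    obtain ⟨n, hn⟩ := mem_zpowers_iff.1 h1
    have h2 : v ^ (2 : ℤ) = 1 := by rw [zpow_two]; exact hv
    rcases Int.even_or_odd' n with ⟨k, hk | hk⟩
    · exfalso
      rw [hk, zpow_mul, h2, one_zpow] at hn
      exact conj_ne_one hv1 hn.symm
    · rw [hk, zpow_add, zpow_mul, h2, one_zpow, one_mul, zpow_one] at hn
      exact mul_inv_eq_iff_eq_mul.1 hn.symm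
  · intro x hx
    rw [mem_centralizer_singleton_iff] at hx
    rw [mem_norm]
    apply le_antisymm
    · rintro _ ⟨y, hy, rfl⟩
      obtain ⟨n, rfl⟩ := mem_zpowers_iff.1 hy
      show x * v ^ n * x⁻¹ ∈ _
      rw [← conj_zpow, hx, mul_inv_cancel_right]
      exact zpow_mem (mem_zpowers v) n
    · rw [zpowers_le]
      rw [mem_cj]
      have e : x⁻¹ * v * x = v := by rw [mul_assoc, ← hx]; group
      rw [e]
      exact mem_zpowers v

/-- **(δ)** -/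
theorem one_of_two [Finite H] [Fact p.Prime] (h : AStr p S Z C Q P V D J R E W F)
    (gen : ∀ N : Subgroup H, N ≤ C → (S : Subgroup H) ≤ N →
      (∀ c ∈ C, ⁅V, cj c V⁆ ≠ ⊥ → c ∈ N) → N = C)
    (hF : Fintype.card F = 2) : r = 1 := by
  classical
  have h0 : ∀ i, ∃ a b, Two (S : Subgroup H) (E i) (W i) a b := fun i => exists_two (h.nat i) hF
  choose a b ht using h0
  have hca := fun i => cent_a h ht i
  have hVc : ∀ x ∈ V, ∀ y ∈ V, x * y = y * x := fun x hx y hy => V_comm h hx hy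
  have haV : ∀ i, a i ∈ V := fun i => h.W_le i (ht i).ha
  have hbV : ∀ i, b i ∈ V := fun i => h.W_le i (ht i).hb
  have ainj : Function.Injective a := by
    intro i j hij
    by_contra hne
    apply (ht i).a1
    have h1 : a i ∈ W i ⊓ (⨆ k ∈ {k | k ≠ i}, W k) := by
      refine ⟨(ht i).ha, ?_⟩
      rw [hij]
      have h2 : W j ≤ ⨆ k ∈ {k | k ≠ i}, W k :=
        le_biSup W (show j ∈ {k | k ≠ i} from fun h3 => hne h3.symm)
      exact h2 (ht j).ha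
    rw [h.W_ind i] at h1
    exact Subgroup.mem_bot.1 h1
  -- `C` permutes the `a i`
  have hperm : ∀ c ∈ C, ∀ i, ∃ j, c * a i * c⁻¹ = a j := by
    have h1 : C ⊓ normalizer (Set.range a) = C := by
      apply gen _ inf_le_left
      · refine le_inf h.hyp.S_le ?_
        intro s hs
        apply mem_normalizer_fintype
        rintro _ ⟨i, rfl⟩
        obtain ⟨j, hj⟩ := h.perm s (h.hyp.hSP hs) i
        exact ⟨j, (perm_S h ht hs hj).symm⟩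
      · intro c hc hV
        refine ⟨hc, ?_⟩
        apply mem_normalizer_fintype
        rintro _ ⟨k, rfl⟩
        obtain ⟨i, hi, -⟩ := lemA h ht hca hc hV (ht k).hb (ht k).b1 (ht k).ab.symm
        exact ⟨i, hi.symm⟩
    intro c hc i
    have h2 : c ∈ normalizer (Set.range a) := (h1.ge hc).2
    obtain ⟨j, hj⟩ := (h2 (a i)).1 ⟨i, rfl⟩
    exact ⟨j, hj.symm⟩
  have hσ : ∀ c ∈ C, ∃ σ : Equiv.Perm (Fin r), ∀ i, c * a i * c⁻¹ = a (σ i) := by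
    intro c hc
    choose f hf using hperm c hc
    have hinj : Function.Injective f := by
      intro i j hij
      apply ainj
      apply conj_inj (x := c)
      rw [hf i, hf j, hij]
    exact ⟨Equiv.ofBijective f (Finite.injective_iff_bijective.1 hinj), hf⟩
  obtain ⟨vv, hv⟩ := exists_VV hVc haV
  have vinj := VV.inj h ht hv
  by_contra hr
  have hQC : Q ≤ C := h.hyp.Q_le_C
  have hQS : Q ≤ (S : Subgroup H) := h.hyp.Q_le_S
  have hQp := h.hyp.Q_pgroup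
  have hCQ : C ≤ normalizer (Q : Set H) := h.hyp.C_eq.ge
  -- transitivity on the `a i`
  have htr : ∀ i j, ∃ q ∈ Q, q * a i * q⁻¹ = a j := by
    intro i j
    obtain ⟨q, hq, hq2⟩ := h.trans i j
    exact ⟨q, hq, perm_S h ht (hQS hq) hq2⟩
  -- `z`
  obtain ⟨z, hz⟩ : ∃ z, z = vv Finset.univ := ⟨_, rfl⟩
  have hzV : z ∈ V := hz ▸ hv.mem _
  have hzC : ∀ c ∈ C, c * z * c⁻¹ = z := by
    intro c hc
    obtain ⟨σ, hσ⟩ := hσ c hc
    rw [hz, hv.conj hσ, Finset.map_univ_equiv]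
  have hz1 : z ≠ 1 := by
    rw [← hv.emp, hz]
    intro h1
    have h3 := vinj h1
    have h2 : (⟨0, h.pos⟩ : Fin r) ∈ (∅ : Finset (Fin r)) := h3 ▸ Finset.mem_univ _
    exact Finset.notMem_empty _ h2
  have hzQ : z ∈ Q ⊓ centralizer (Q : Set H) := by
    refine ⟨h.VQ hzV, mem_centralizer_iff.2 fun q hq => ?_⟩
    exact mul_inv_eq_iff_eq_mul.1 (hzC q (hQC hq))
  have hCz : centralizer ({z} : Set H) ≤ C := h.hyp.hQuniq z hzQ hz1
  -- `K₁`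
  obtain ⟨i₀, hi₀⟩ : ∃ i₀ : Fin r, i₀ = ⟨0, h.pos⟩ := ⟨_, rfl⟩
  obtain ⟨K₀, hK₀⟩ : ∃ K₀ : Subgroup H, K₀ = Q ⊓ centralizer ({a i₀} : Set H) := ⟨_, rfl⟩
  obtain ⟨K₁, hK₁⟩ : ∃ K₁ : Subgroup H, K₁ = ⁅Q, Q⁆ ⊔ K₀ := ⟨_, rfl⟩
  have hK₀Q : K₀ ≤ Q := hK₀ ▸ inf_le_left
  have hK₀₁ : K₀ ≤ K₁ := hK₁ ▸ le_sup_right
  have hQ' : ⁅Q, Q⁆ ≤ Q := le_norm_iff_comm_le.1 le_normalizer
  have hK₁Q : K₁ ≤ Q := by rw [hK₁]; exact sup_le hQ' hK₀Q
  have memK₀ : ∀ x ∈ Q, x * a i₀ * x⁻¹ = a i₀ → x ∈ K₀ := by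
    intro x hx h1
    rw [hK₀]
    refine ⟨hx, mem_centralizer_singleton_iff.2 ?_⟩
    exact mul_inv_eq_iff_eq_mul.1 h1
  have hK₁ne : ¬ Q ≤ K₁ := by
    intro h1
    rw [hK₁] at h1
    have h2 := le_of_le_comm_sup hQp hK₀Q h1
    have hpos := h.pos
    have hr2 : 1 < r := by omega
    obtain ⟨q, hq, hq2⟩ := htr i₀ ⟨1, hr2⟩
    have h3 := h2 hq
    rw [hK₀] at h3
    have h4 := mem_centralizer_singleton_iff.1 h3.2
    have h5 : a i₀ = a ⟨1, hr2⟩ := by rw [← hq2, h4, mul_inv_cancel_right]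
    have h6 := ainj h5
    rw [hi₀] at h6
    have h7 := congrArg Fin.val h6
    simp at h7
  have hCK₁ : C ≤ normalizer (K₁ : Set H) := by
    rw [le_norm_iff]
    intro c hc
    have h1 : cj c K₁ ≤ K₁ := by
      rw [hK₁, cj_sup, cj_comm, mem_norm.1 (hCQ hc)]
      refine sup_le le_sup_left ?_
      rintro _ ⟨x, hx, rfl⟩
      show c * x * c⁻¹ ∈ _
      obtain ⟨i, hi⟩ := hperm c hc i₀
      obtain ⟨q, hq, hq2⟩ := htr i₀ i
      have hx2 : x * a i₀ = a i₀ * x := by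
        rw [hK₀] at hx
        exact mem_centralizer_singleton_iff.1 hx.2
      have hcx : c * x * c⁻¹ ∈ Q := (le_norm_iff.1 hCQ) c hc x (hK₀Q hx)
      have hy : q⁻¹ * (c * x * c⁻¹) * q ∈ K₀ := by
        apply memK₀ _ (Q.mul_mem (Q.mul_mem (Q.inv_mem hq) hcx) hq)
        have h2 : q⁻¹ * (c * x * c⁻¹) * q * a i₀ * (q⁻¹ * (c * x * c⁻¹) * q)⁻¹ =
            q⁻¹ * ((c * x * c⁻¹) * (q * a i₀ * q⁻¹) * (c * x * c⁻¹)⁻¹) * q := by group
        rw [h2, hq2, ← hi]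
        have h3 : (c * x * c⁻¹) * (c * a i₀ * c⁻¹) * (c * x * c⁻¹)⁻¹ = c * (x * a i₀ * x⁻¹) * c⁻¹ := by
          group
        rw [h3, hx2, mul_inv_cancel_right, hi, ← hq2]
        group
      have h5 := commutator_mem_commutator hq (hK₀Q hy)
      rw [commutatorElement_def] at h5
      have h4 : c * x * c⁻¹ = (q * (q⁻¹ * (c * x * c⁻¹) * q) * q⁻¹ * (q⁻¹ * (c * x * c⁻¹) * q)⁻¹) *
          (q⁻¹ * (c * x * c⁻¹) * q) := by group
      rw [h4]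
      exact mul_mem (mem_sup_left h5) (mem_sup_right hy)
    intro x hx
    exact h1 (conj_mem_cj hx)
  have conjK₁ : ∀ c ∈ C, ∀ x ∈ K₁, c * x * c⁻¹ ∈ K₁ := le_norm_iff.1 hCK₁
  have hVK₁ : V ≤ K₁ := by
    refine le_trans ?_ hK₀₁
    intro x hx
    apply memK₀ _ (h.VQ hx)
    rw [hVc x hx _ (haV i₀), mul_inv_cancel_right]
  have hNK₁ : normalizer (K₁ : Set H) = C := by
    refine h.hyp.hCmax _ ⟨K₁, isPGroup_mono hK₁Q hQp, ?_, rfl⟩ hCK₁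
    intro h1
    apply (ht i₀).a1
    have h2 := hVK₁ (haV i₀)
    rw [h1] at h2
    exact Subgroup.mem_bot.1 h2
  -- `δ`, `v`
  obtain ⟨δ, hδ⟩ : ∃ δ : Finset (Fin r), ∀ i, i ∈ δ ↔ ∃ x ∈ K₁, x * a i₀ * x⁻¹ = a i :=
    ⟨Finset.univ.filter (fun i => ∃ x ∈ K₁, x * a i₀ * x⁻¹ = a i), fun i => by simp⟩
  obtain ⟨v, hvv⟩ : ∃ v, v = vv δ := ⟨_, rfl⟩
  have hvV : v ∈ V := hvv ▸ hv.mem _
  have F1 : i₀ ∈ δ := (hδ i₀).2 ⟨1, K₁.one_mem, by group⟩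
  have F2 : ∀ x ∈ Q, ∀ i ∈ δ, x * a i₀ * x⁻¹ = a i → x ∈ K₁ := by
    intro x hx i hi hxi
    obtain ⟨k, hk, hki⟩ := (hδ i).1 hi
    have h1 : k⁻¹ * x ∈ K₀ := by
      apply memK₀ _ (Q.mul_mem (Q.inv_mem (hK₁Q hk)) hx)
      have e : k⁻¹ * x * a i₀ * (k⁻¹ * x)⁻¹ = k⁻¹ * (x * a i₀ * x⁻¹) * k := by group
      rw [e, hxi, ← hki]; group
    have e : x = k * (k⁻¹ * x) := by group
    rw [e]
    exact K₁.mul_mem hk (hK₀₁ h1)
  have F3 : ∀ c ∈ C, ∀ σ : Equiv.Perm (Fin r), (∀ i, c * a i * c⁻¹ = a (σ i)) →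
      ∀ k, k ∈ δ.map σ.toEmbedding ↔ ∃ y ∈ K₁, y * (c * a i₀ * c⁻¹) * y⁻¹ = a k := by
    intro c hc σ hσ k
    rw [Finset.mem_map]
    constructor
    · rintro ⟨i, hi, rfl⟩
      obtain ⟨x, hx, hxi⟩ := (hδ i).1 hi
      refine ⟨c * x * c⁻¹, conjK₁ c hc x hx, ?_⟩
      show _ = a (σ i)
      rw [← hσ i, ← hxi]; group
    · rintro ⟨y, hy, hyk⟩
      refine ⟨σ.symm k, ?_, by simp⟩
      rw [hδ]
      refine ⟨c⁻¹ * y * c, ?_, ?_⟩
      · have := conjK₁ c⁻¹ (C.inv_mem hc) y hy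
        rwa [inv_inv] at this
      · apply conj_inj (x := c)
        rw [hσ, Equiv.apply_symm_apply, ← hyk]; group
  have Fv : ∀ c ∈ C, ∀ c' ∈ C, c * a i₀ * c⁻¹ = c' * a i₀ * c'⁻¹ → c * v * c⁻¹ = c' * v * c'⁻¹ := by
    intro c hc c' hc' hcc
    obtain ⟨σ, hs⟩ := hσ c hc
    obtain ⟨σ', hs'⟩ := hσ c' hc'
    rw [hvv, hv.conj hs, hv.conj hs']
    congr 1
    ext k
    rw [F3 c hc σ hs k, F3 c' hc' σ' hs' k, hcc]
  have F4 : ∀ x ∈ K₁, x * v * x⁻¹ = v := by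
    intro x hx
    obtain ⟨σ, hs⟩ := hσ x (hQC (hK₁Q hx))
    rw [hvv, hv.conj hs]
    congr 1
    ext k
    rw [F3 x (hQC (hK₁Q hx)) σ hs k, hδ]
    constructor
    · rintro ⟨y, hy, hyk⟩
      refine ⟨y * x, K₁.mul_mem hy hx, ?_⟩
      rw [← hyk]; group
    · rintro ⟨y, hy, hyk⟩
      refine ⟨y * x⁻¹, K₁.mul_mem hy (K₁.inv_mem hx), ?_⟩
      rw [← hyk]; group
  have Fδ : ∀ c ∈ C, c * v * c⁻¹ = v → ∀ σ : Equiv.Perm (Fin r), (∀ i, c * a i * c⁻¹ = a (σ i)) →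
      δ.map σ.toEmbedding = δ := by
    intro c hc hcv σ hs
    apply vinj
    rw [← hv.conj hs, ← hvv, hcv]
  have F5 : ∀ x ∈ Q, x * v * x⁻¹ = v → x ∈ K₁ := by
    intro x hx hxv
    obtain ⟨σ, hs⟩ := hσ x (hQC hx)
    have h1 := Fδ x (hQC hx) hxv σ hs
    refine F2 x hx (σ i₀) ?_ (hs i₀)
    rw [← h1]
    exact Finset.mem_map_of_mem _ F1
  have F6 : ∀ c ∈ C, ∃ q ∈ Q, ∃ c' ∈ C, c = q * c' ∧ c' * v * c'⁻¹ = v := by
    intro c hc
    obtain ⟨m, hm⟩ := hperm c hc i₀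
    obtain ⟨q, hq, hq2⟩ := htr i₀ m
    refine ⟨q, hq, q⁻¹ * c, C.mul_mem (C.inv_mem (hQC hq)) hc, by group, ?_⟩
    have h1 := Fv c hc q (hQC hq) (by rw [hm, hq2])
    have e : q⁻¹ * c * v * (q⁻¹ * c)⁻¹ = q⁻¹ * (c * v * c⁻¹) * q := by group
    rw [e, h1]; group
  have F7 : ∀ c ∈ C, c * v * c⁻¹ = v → ∀ i j, i ∉ δ → c * a i * c⁻¹ = a j → j ∉ δ := by
    intro c hc hcv i j hi hij hj
    obtain ⟨σ, hs⟩ := hσ c hc
    have h1 := Fδ c hc hcv σ hs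
    have h2 : σ i = j := ainj (by rw [← hs i, hij])
    rw [← h1, ← h2, Finset.mem_map] at hj
    obtain ⟨k, hk, hk2⟩ := hj
    exact hi (σ.injective hk2 ▸ hk)
  -- `k₀ ∉ δ`
  obtain ⟨k₀, hk₀⟩ : ∃ k₀, k₀ ∉ δ := by
    obtain ⟨x, hx, hx2⟩ := SetLike.not_le_iff_exists.1 hK₁ne
    obtain ⟨m, hm⟩ := hperm x (hQC hx) i₀
    exact ⟨m, fun h1 => hx2 (F2 x hx m h1 hm)⟩
  have cent_iff : ∀ x, x ∈ centralizer ({v} : Set H) ↔ x * v * x⁻¹ = v := by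
    intro x
    rw [mem_centralizer_singleton_iff, mul_inv_eq_iff_eq_mul]
  -- `O_p(C_C(v)) ≤ K₁`
  have hO : pCoreOf p (C ⊓ centralizer ({v} : Set H)) ≤ K₁ := by
    have h1 : pCoreOf p (C ⊓ centralizer ({v} : Set H)) ≤ C ⊓ centralizer ({v} : Set H) :=
      H229.pCoreOf_le _ _
    have h2 : Q ⊔ pCoreOf p (C ⊓ centralizer ({v} : Set H)) ≤ pCoreOf p C := by
      refine H229.le_pCoreOf (sup_le hQC (h1.trans inf_le_left)) ?_
        (isPGroup_sup_of_norm hQp (H229.isPGroup_pCoreOf _ _) ((h1.trans inf_le_left).trans hCQ))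
      intro c hc
      obtain ⟨q, hq, c', hc', rfl, hc'v⟩ := F6 c hc
      refine mul_mem (le_normalizer (mem_sup_left hq)) ?_
      apply norm_sup_le
      exact ⟨hCQ hc', le_norm_pCoreOf p _ ⟨hc', (cent_iff c').2 hc'v⟩⟩
    rw [← h.hyp.hQ] at h2
    intro x hx
    exact F5 x (h2 (mem_sup_right hx)) ((cent_iff x).1 (h1 hx).2)
  -- `L = C_H(v)`
  have hv1 : v ≠ 1 := by
    rw [hvv, ← hv.emp]
    intro h1
    have h2 := vinj h1
    rw [h2] at F1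
    exact Finset.notMem_empty _ F1
  have hvsq : v * v = 1 := by
    rw [hvv]
    exact hv.sq hVc haV (fun i => (ht i).aa) δ
  obtain ⟨L, hL⟩ : ∃ L : Subgroup H, L = centralizer ({v} : Set H) := ⟨_, rfl⟩
  have hLchp : ChP p L := by
    have h1 := h.hyp.hloc.2 (zpowers v) (isPGroup_mono (zpowers_le.2 (h.VQ hvV)) hQp)
      (fun h2 => hv1 (zpowers_eq_bot.1 h2))
    rw [← chP_iff, centralizer_eq_of_sq hvsq hv1, ← hL] at h1
    exact h1
  obtain ⟨B, hB⟩ : ∃ B : Subgroup H, B = pCoreOf p L := ⟨_, rfl⟩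
  have hBL : B ≤ L := hB ▸ H229.pCoreOf_le _ _
  have hLB : L ≤ normalizer (B : Set H) := hB ▸ le_norm_pCoreOf p L
  have hBp : IsPGroup p ↥B := hB ▸ H229.isPGroup_pCoreOf p L
  have hK₁L : K₁ ≤ L := by
    intro x hx
    rw [hL, cent_iff]
    exact F4 x hx
  have hBC : B ⊓ C ≤ K₁ := by
    refine le_trans ?_ hO
    refine H229.le_pCoreOf (le_inf inf_le_right (inf_le_left.trans (hL ▸ hBL))) ?_
      (isPGroup_mono inf_le_left hBp)
    refine le_trans (le_inf ?_ ?_) (norm_inf_le _ _)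
    · exact inf_le_right.trans (hL ▸ hLB)
    · exact inf_le_left.trans le_normalizer
  have hBK₁ : B ≤ K₁ := by
    by_contra hne
    have hlt : K₁ < B ⊔ K₁ := lt_of_le_of_ne le_sup_right fun h1 => hne (h1.symm ▸ le_sup_left)
    have hT : IsPGroup p ↥(B ⊔ K₁) := isPGroup_sup_of_norm hBp (isPGroup_mono hK₁Q hQp) (hK₁L.trans hLB)
    obtain ⟨x, hx, hxN, hxK⟩ := exists_mem_normalizer_of_lt hT hlt
    rw [hNK₁] at hxN
    obtain ⟨y, hy, k, hk, hyk⟩ := (mem_sup_of_norm (hK₁L.trans hLB)).1 hx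
    apply hxK
    rw [← hyk]
    refine K₁.mul_mem (hBC ⟨hy, ?_⟩) hk
    have e : y = x * k⁻¹ := by rw [← hyk]; group
    rw [e]
    exact C.mul_mem hxN (C.inv_mem (hQC (hK₁Q hk)))
  have hBC' : B ≤ C := hBK₁.trans (hK₁Q.trans hQC)
  have hzcB : z ∈ centralizer (B : Set H) := by
    rw [mem_centralizer_iff]
    intro y hy
    exact mul_inv_eq_iff_eq_mul.1 (hzC y (hBC' hy))
  have hzL : z ∈ L := by rw [hL, cent_iff, hVc z hzV v hvV, mul_inv_cancel_right]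
  have hzB : z ∈ B := by
    rw [hB]
    exact hLchp ⟨hzL, hB ▸ hzcB⟩
  have hLcB : L ≤ normalizer (centralizer (B : Set H) : Set H) := hLB.trans (norm_le_norm_centralizer B)
  -- `g j = a j * b j ∈ Z(B)` for `j ∉ δ`
  have hg : ∀ j, j ∉ δ → a j * b j ∈ B ∧ a j * b j ∈ centralizer (B : Set H) := by
    intro j hj
    obtain ⟨e, he, hez⟩ := VV.move h ht hv (Finset.mem_univ j)
    rw [← hz] at hez
    have heL : e ∈ L := by
      rw [hL, cent_iff, hvv]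
      exact VV.not_mem h ht hv hj he
    have e1 : a j * b j = (e * z * e⁻¹) * z⁻¹ := by rw [hez]; group
    rw [e1]
    exact ⟨B.mul_mem (le_norm_iff.1 hLB e heL z hzB) (B.inv_mem hzB),
      (centralizer (B : Set H)).mul_mem (le_norm_iff.1 hLcB e heL z hzcB)
        ((centralizer (B : Set H)).inv_mem hzcB)⟩
  -- conclusion
  obtain ⟨c, hc, hcV⟩ := h.ex
  obtain ⟨q, hq, c', hc', rfl, hc'v⟩ := F6 c hc
  have hc'V : ⁅V, cj c' V⁆ ≠ ⊥ := by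
    intro h1
    apply hcV
    have hqV : cj q V = V := mem_norm.1 (V_norm h (h.hyp.Q_le_P hq))
    have h2 : cj q ⁅V, cj c' V⁆ = ⁅V, cj (q * c') V⁆ := by rw [cj_comm, hqV, cj_mul]
    rw [← h2, h1, cj_bot]
  have hxW : a k₀ * b k₀ ∈ W k₀ := (W k₀).mul_mem (ht k₀).ha (ht k₀).hb
  obtain ⟨i, hi1, hi2, hi3⟩ := lemA h ht hca hc' hc'V hxW (ht k₀).ab_ne
    (fun h1 => (ht k₀).b1 (mul_eq_left.1 h1))
  have hiδ : i ∉ δ := F7 c' hc' hc'v k₀ i hk₀ hi1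
  obtain ⟨u, hu⟩ : ∃ u, u = c' * (a k₀ * b k₀) * c'⁻¹ := ⟨_, rfl⟩
  rw [← hu] at hi2 hi3
  have hc'L : c' ∈ L := by rw [hL, cent_iff]; exact hc'v
  have huB : u ∈ centralizer (B : Set H) := by
    rw [hu]
    exact le_norm_iff.1 hLcB c' hc'L _ (hg k₀ hk₀).2
  have h1 : (a i * b i) * u = u * (a i * b i) := mem_centralizer_iff.1 huB _ (hg i hiδ).1
  have h2 : u * (a i * b i) * u⁻¹ = a i * b i := by rw [← h1, mul_inv_cancel_right]
  have h3 : u * (a i * b i) * u⁻¹ = (u * a i * u⁻¹) * (u * b i * u⁻¹) := by group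
  rw [h2, hi2, hi3] at h3
  exact (ht i).a1 (mul_eq_right.1 h3.symm)

end Cfsg.Agent.H537.P1
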