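import Cfsg.Agent.H537.P1.Two
import Cfsg.Agent.Lib.Hyperfocal

/-!
# The `P!`-theorem (S3046), Case A, `|F| = 2`: the action of `S ∩ J`, Lemma A, products of the `a i`
-/

set_option autoImplicit false
set_option linter.unusedSectionVars false

open Cfsg Subgroup
open Cfsg.Agent.H230 Cfsg.Agent.H229 Cfsg.Agent.H247.P1 Cfsg.Agent.H250.P1

namespace Cfsg.Agent.H537.P1

variable {H : Type*} [Group H] {p : ℕ}
variable {S : Sylow p H} {Z C Q P V D J R : Subgroup H} {r : ℕ} {E W : Fin r → Subgroup H}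
  {F : Type} [Field F] [Fintype F] {a b : Fin r → H}

theorem conj_cent {K : Subgroup H} {x y : H} (hy : y ∈ centralizer (K : Set H)) (hx : x ∈ K) :
    x * y * x⁻¹ = y := by
  rw [(mem_centralizer_iff.1 hy) x hx, mul_inv_cancel_right]

theorem conj_ne_one {x y : H} (hy : y ≠ 1) : x * y * x⁻¹ ≠ 1 := by
  intro h
  apply hy
  have : y = x⁻¹ * (x * y * x⁻¹) * x := by group
  rw [this, h]; group

theorem conj_inj {x y z : H} (h : x * y * x⁻¹ = x * z * x⁻¹) : y = z :=
  mul_left_cancel (mul_right_cancel h)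

theorem V_ea (h : AStr p S Z C Q P V D J R E W F) : IsElementaryAbelian p V := by
  rw [h.V_eq]; exact largest_ea p P

theorem V_norm (h : AStr p S Z C Q P V D J R E W F) : P ≤ normalizer (V : Set H) := by
  rw [h.V_eq]; exact largest_normal p P

theorem V_comm (h : AStr p S Z C Q P V D J R E W F) {x y : H} (hx : x ∈ V) (hy : y ∈ V) :
    x * y = y * x := ea_comm (V_ea h) hx hy

theorem D_cent (h : AStr p S Z C Q P V D J R E W F) : D ≤ centralizer (V : Set H) := by
  rw [h.D_eq, h.V_eq]; exact pCoreOf_le_centralizer_largest p P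

theorem J_norm_W (h : AStr p S Z C Q P V D J R E W F)
    (ht : ∀ i, Two (S : Subgroup H) (E i) (W i) (a i) (b i)) (i : Fin r) :
    J ≤ normalizer (W i : Set H) := by
  rw [h.J_eq, iSup_le_iff]
  intro j
  by_cases hij : i = j
  · rw [← hij]; exact (ht i).hE
  · exact (le_centralizer_comm (h.fix i j hij)).trans (centralizer_le_norm _)

theorem E_le_J (h : AStr p S Z C Q P V D J R E W F) (i : Fin r) : E i ≤ J := by
  rw [h.J_eq]; exact le_iSup E i

theorem uniq (h : AStr p S Z C Q P V D J R E W F)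
    (ht : ∀ i, Two (S : Subgroup H) (E i) (W i) (a i) (b i)) (i : Fin r) {y : H} (hy : y ∈ W i)
    (hyc : y ∈ centralizer (((S : Subgroup H) ⊓ J : Subgroup H) : Set H)) (hy1 : y ≠ 1) : y = a i := by
  obtain ⟨x, hxE, hxS, hxa, hxb⟩ := (ht i).hx
  have h1 : x * y * x⁻¹ = y := conj_cent hyc ⟨hxS, E_le_J h i hxE⟩
  rcases (ht i).all y hy with h2 | h2 | h2 | h2
  · exact absurd h2 hy1
  · exact h2
  · exfalso
    rw [h2, hxb] at h1
    exact (ht i).a1 (mul_eq_right.1 h1)
  · exfalso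
    rw [h2] at h1
    have h3 : x * (a i * b i) * x⁻¹ = (x * a i * x⁻¹) * (x * b i * x⁻¹) := by group
    rw [hxa, hxb, h1] at h3
    exact (ht i).a1 (mul_eq_right.1 h3.symm)

theorem act (h : AStr p S Z C Q P V D J R E W F)
    (ht : ∀ i, Two (S : Subgroup H) (E i) (W i) (a i) (b i)) {i : Fin r}
    (hca : a i ∈ centralizer (((S : Subgroup H) ⊓ J : Subgroup H) : Set H)) {s x : H}
    (hs : s ∈ (S : Subgroup H) ⊓ J) (hx : x ∈ W i) : s * x * s⁻¹ = x ∨ s * x * s⁻¹ = a i * x := by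
  have ha : s * a i * s⁻¹ = a i := conj_cent hca hs
  have hb : s * b i * s⁻¹ = b i ∨ s * b i * s⁻¹ = a i * b i := by
    have h1 : s * b i * s⁻¹ ∈ W i := (le_norm_iff.1 (J_norm_W h ht i)) s hs.2 _ (ht i).hb
    rcases (ht i).all _ h1 with h2 | h2 | h2 | h2
    · exact absurd h2 (conj_ne_one (ht i).b1)
    · exfalso
      apply (ht i).ab
      apply conj_inj (x := s)
      rw [ha, h2]
    · left; exact h2
    · right; exact h2
  rcases (ht i).all x hx with h2 | h2 | h2 | h2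
  · left; rw [h2]; group
  · left; rw [h2]; exact ha
  · rw [h2]; exact hb
  · rw [h2]
    have e : s * (a i * b i) * s⁻¹ = (s * a i * s⁻¹) * (s * b i * s⁻¹) := by group
    rw [e, ha]
    rcases hb with hb | hb
    · left; rw [hb]
    · right; rw [hb]

/-- Lemma A -/
theorem lemA (h : AStr p S Z C Q P V D J R E W F)
    (ht : ∀ i, Two (S : Subgroup H) (E i) (W i) (a i) (b i))
    (hca : ∀ i, a i ∈ centralizer (((S : Subgroup H) ⊓ J : Subgroup H) : Set H))
    {c : H} (hc : c ∈ C) (hV : ⁅V, cj c V⁆ ≠ ⊥) {k : Fin r} {x : H} (hx : x ∈ W k) (hx1 : x ≠ 1)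
    (hxa : x ≠ a k) :
    ∃ i, c * a k * c⁻¹ = a i ∧ (c * x * c⁻¹) * a i * (c * x * c⁻¹)⁻¹ = a i ∧
      (c * x * c⁻¹) * b i * (c * x * c⁻¹)⁻¹ = a i * b i := by
  have hc' : c⁻¹ ∈ C := C.inv_mem hc
  have hV' : ⁅V, cj c⁻¹ V⁆ ≠ ⊥ := by
    intro h1
    apply hV
    have h2 : cj c ⁅V, cj c⁻¹ V⁆ = ⁅cj c V, V⁆ := by rw [cj_comm, cj_cj_inv]
    rw [h1, cj_bot] at h2
    rw [commutator_comm, ← h2]
  obtain ⟨h1, -, -, -⟩ := h.adj c hc hV
  obtain ⟨h1', -, -, -⟩ := h.adj c⁻¹ hc' hV'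
  have hle : cj c V ≤ (S : Subgroup H) ⊓ J := h1 ▸ le_sup_left
  have hle' : cj c⁻¹ V ≤ (S : Subgroup H) ⊓ J := h1' ▸ le_sup_left
  have hxV : x ∈ V := h.W_le k hx
  -- `V^(c⁻¹)` does not centralise `x`
  have hnc : ¬ cj c⁻¹ V ≤ centralizer ({x} : Set H) := by
    intro h2
    have h3 : (S : Subgroup H) ⊓ J ≤ centralizer ({x} : Set H) := by
      rw [← h1']
      refine sup_le h2 ?_
      intro d hd
      rw [mem_centralizer_singleton_iff]
      exact ((mem_centralizer_iff.1 (D_cent h hd)) x hxV).symm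
    apply hxa
    apply uniq h ht k hx _ hx1
    rw [mem_centralizer_iff]
    intro s hs
    exact mem_centralizer_singleton_iff.1 (h3 hs)
  obtain ⟨y, hy⟩ : ∃ y, y = c * x * c⁻¹ := ⟨_, rfl⟩
  rw [← hy]
  have hyc : y ∈ cj c V := hy ▸ conj_mem_cj hxV
  have hyS : y ∈ (S : Subgroup H) ⊓ J := hle hyc
  have hyV : ¬ V ≤ centralizer ({y} : Set H) := by
    intro h2
    apply hnc
    intro u hu
    rw [mem_cj, inv_inv] at hu
    have h3 := mem_centralizer_singleton_iff.1 (h2 hu)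
    rw [mem_centralizer_singleton_iff]
    apply conj_inj (x := c)
    calc c * (u * x) * c⁻¹ = c * u * c⁻¹ * y := by rw [hy]; group
      _ = y * (c * u * c⁻¹) := h3
      _ = c * (x * u) * c⁻¹ := by rw [hy]; group
  obtain ⟨i, hi⟩ : ∃ i, ¬ W i ≤ centralizer ({y} : Set H) := by
    by_contra h2
    push Not at h2
    apply hyV
    rw [← h.W_sup]
    exact iSup_le h2
  obtain ⟨w, hw, hwy⟩ := SetLike.not_le_iff_exists.1 hi
  have hwy2 : y * w * y⁻¹ ≠ w := by
    intro h2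
    apply hwy
    rw [mem_centralizer_singleton_iff]
    exact (mul_inv_eq_iff_eq_mul.1 h2).symm
  have hwy3 : y * w * y⁻¹ = a i * w := (act h ht (hca i) hyS hw).resolve_left hwy2
  have hai : y * a i * y⁻¹ = a i := conj_cent (hca i) hyS
  have hyb : y * b i * y⁻¹ = a i * b i := by
    rcases (ht i).all w hw with h2 | h2 | h2 | h2
    · exfalso; apply hwy2; rw [h2]; group
    · exfalso; apply hwy2; rw [h2]; exact hai
    · rw [← h2]; exact hwy3
    · rw [h2] at hwy3
      have e : y * (a i * b i) * y⁻¹ = (y * a i * y⁻¹) * (y * b i * y⁻¹) := by group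
      rw [hwy3, hai] at e
      exact (mul_left_cancel e).symm
  refine ⟨i, ?_, hai, hyb⟩
  -- back
  obtain ⟨w', hw'⟩ : ∃ w', w' = c⁻¹ * b i * c := ⟨_, rfl⟩
  have hw'V : w' ∈ cj c⁻¹ V := by
    rw [mem_cj, hw']
    have e : c⁻¹⁻¹ * (c⁻¹ * b i * c) * c⁻¹ = b i := by group
    rw [e]
    exact h.W_le i (ht i).hb
  have e1 : x * w' * x⁻¹ = (c⁻¹ * a i * c) * w' := by
    apply conj_inj (x := c)
    calc c * (x * w' * x⁻¹) * c⁻¹ = y * b i * y⁻¹ := by rw [hy, hw']; group
      _ = a i * b i := hyb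
      _ = c * ((c⁻¹ * a i * c) * w') * c⁻¹ := by rw [hw']; group
  rcases act h ht (hca k) (hle' hw'V) hx with h2 | h2
  · exfalso
    have h3 : x * w' * x⁻¹ = w' := by
      rw [← mul_inv_eq_iff_eq_mul.1 h2]; group
    rw [h3] at e1
    have h4 : c⁻¹ * a i * c = 1 := mul_eq_right.1 e1.symm
    apply (ht i).a1
    have : a i = c * (c⁻¹ * a i * c) * c⁻¹ := by group
    rw [this, h4]; group
  · have h3 : w' * x = a k * x * w' := mul_inv_eq_iff_eq_mul.1 h2
    have h4 : x * w' = (c⁻¹ * a i * c) * a k * (x * w') := by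
      calc x * w' = (c⁻¹ * a i * c) * w' * x := mul_inv_eq_iff_eq_mul.1 e1
        _ = (c⁻¹ * a i * c) * (w' * x) := by group
        _ = (c⁻¹ * a i * c) * a k * (x * w') := by rw [h3]; group
    have h5 : (c⁻¹ * a i * c) * a k = 1 := mul_eq_right.1 h4.symm
    have h6 : c⁻¹ * a i * c = a k := by
      have h7 : c⁻¹ * a i * c = (c⁻¹ * a i * c) * a k * a k := by
        rw [mul_assoc (c⁻¹ * a i * c), (ht k).aa, mul_one]
      rw [h7, h5, one_mul]
    rw [← h6]; group

section fin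

variable [Finite H] [Fact p.Prime]

theorem cent_a (h : AStr p S Z C Q P V D J R E W F)
    (ht : ∀ i, Two (S : Subgroup H) (E i) (W i) (a i) (b i)) (i : Fin r) :
    a i ∈ centralizer (((S : Subgroup H) ⊓ J : Subgroup H) : Set H) := by
  have hp : IsPGroup p ↥(W i) := isPGroup_mono ((h.W_le i).trans h.VQ) h.hyp.Q_pgroup
  have hne : W i ≠ ⊥ := by
    intro h1
    apply (ht i).a1
    have := (ht i).ha
    rw [h1] at this
    exact Subgroup.mem_bot.1 this
  have h1 := PLocal.OffenderStep.inf_centralizer_ne_bot (W i) ((S : Subgroup H) ⊓ J) hp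
    (isPGroup_mono inf_le_left S.2) (inf_le_right.trans (J_norm_W h ht i)) hne
  obtain ⟨y, hy⟩ := (Subgroup.ne_bot_iff_exists_ne_one).1 h1
  have hy1 : (y : H) ≠ 1 := fun h2 => hy (Subtype.ext h2)
  rw [← uniq h ht i y.2.1 y.2.2 hy1]
  exact y.2.2

theorem perm_S (h : AStr p S Z C Q P V D J R E W F)
    (ht : ∀ i, Two (S : Subgroup H) (E i) (W i) (a i) (b i)) {x : H} (hx : x ∈ (S : Subgroup H))
    {i j : Fin r} (hij : cj x (E i) = E j) : x * a i * x⁻¹ = a j := by
  have hxP := h.hyp.hSP hx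
  have h1 : cj x (W i) = W j := h.permW x hxP i j hij
  have h2 : cj x ((S : Subgroup H) ⊓ J) = (S : Subgroup H) ⊓ J := by
    rw [cj_inf, cj_mem_self hx, mem_norm.1 (h.J_norm hxP)]
  apply uniq h ht j
  · rw [← h1]; exact conj_mem_cj (ht i).ha
  · rw [← h2, ← cj_centralizer]; exact conj_mem_cj (cent_a h ht i)
  · exact conj_ne_one (ht i).a1

end fin

/-! ### the products -/

/-- products over subsets of a family inside `V` -/
structure VV (V : Subgroup H) (a : Fin r → H) (vv : Finset (Fin r) → H) : Prop where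
  emp : vv ∅ = 1
  ins : ∀ δ i, i ∉ δ → vv (insert i δ) = a i * vv δ
  mem : ∀ δ, vv δ ∈ V

theorem exists_VV (hVc : ∀ x ∈ V, ∀ y ∈ V, x * y = y * x) (ha : ∀ i, a i ∈ V) :
    ∃ vv, VV V a vv := by
  obtain ⟨vv, h1, h2⟩ := exists_vv a (fun i j => hVc _ (ha i) _ (ha j))
  refine ⟨vv, h1, h2, ?_⟩
  intro δ
  induction δ using Finset.induction_on with
  | empty => rw [h1]; exact V.one_mem
  | insert i δ hi ih => rw [h2 δ i hi]; exact V.mul_mem (ha i) ih

theorem VV.conj {vv : Finset (Fin r) → H} (hv : VV V a vv) {c : H} {σ : Equiv.Perm (Fin r)}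
    (hσ : ∀ i, c * a i * c⁻¹ = a (σ i)) (δ : Finset (Fin r)) :
    c * vv δ * c⁻¹ = vv (δ.map σ.toEmbedding) := by
  induction δ using Finset.induction_on with
  | empty => rw [Finset.map_empty, hv.emp]; group
  | insert i δ hi ih =>
    rw [hv.ins δ i hi, Finset.map_insert, hv.ins]
    · rw [← ih]
      show c * (a i * vv δ) * c⁻¹ = a (σ i) * _
      rw [← hσ i]; group
    · intro h1
      rw [Finset.mem_map] at h1
      obtain ⟨j, hj, hj2⟩ := h1
      exact hi (σ.injective hj2 ▸ hj)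

theorem VV.fix {vv : Finset (Fin r) → H} (hv : VV V a vv) {e : H} {δ : Finset (Fin r)}
    (he : ∀ i ∈ δ, e * a i * e⁻¹ = a i) : e * vv δ * e⁻¹ = vv δ := by
  induction δ using Finset.induction_on with
  | empty => rw [hv.emp]; group
  | insert i δ hi ih =>
    rw [hv.ins δ i hi]
    have e1 : e * (a i * vv δ) * e⁻¹ = (e * a i * e⁻¹) * (e * vv δ * e⁻¹) := by group
    rw [e1, he i (Finset.mem_insert_self _ _), ih fun j hj => he j (Finset.mem_insert_of_mem hj)]

theorem VV.sq {vv : Finset (Fin r) → H} (hv : VV V a vv) (hVc : ∀ x ∈ V, ∀ y ∈ V, x * y = y * x)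
    (ha : ∀ i, a i ∈ V) (haa : ∀ i, a i * a i = 1) (δ : Finset (Fin r)) : vv δ * vv δ = 1 := by
  induction δ using Finset.induction_on with
  | empty => rw [hv.emp]; group
  | insert i δ hi ih =>
    rw [hv.ins δ i hi]
    calc a i * vv δ * (a i * vv δ) = a i * (vv δ * a i) * vv δ := by group
      _ = a i * (a i * vv δ) * vv δ := by rw [hVc _ (hv.mem δ) _ (ha i)]
      _ = (a i * a i) * (vv δ * vv δ) := by group
      _ = 1 := by rw [haa, ih, mul_one]

/-- `E j` centralises `a i`, `i ≠ j`. -/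
theorem E_cent (h : AStr p S Z C Q P V D J R E W F)
    (ht : ∀ i, Two (S : Subgroup H) (E i) (W i) (a i) (b i)) {i j : Fin r} (hij : i ≠ j) {e : H}
    (he : e ∈ E j) : e * a i * e⁻¹ = a i := conj_cent (h.fix i j hij (ht i).ha) he

theorem VV.not_mem (h : AStr p S Z C Q P V D J R E W F)
    (ht : ∀ i, Two (S : Subgroup H) (E i) (W i) (a i) (b i)) {vv : Finset (Fin r) → H}
    (hv : VV V a vv) {j : Fin r} {δ : Finset (Fin r)} (hj : j ∉ δ) {e : H} (he : e ∈ E j) :
    e * vv δ * e⁻¹ = vv δ :=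
  hv.fix fun i hi => E_cent h ht (fun h1 : i = j => hj (h1 ▸ hi)) he

theorem VV.move (h : AStr p S Z C Q P V D J R E W F)
    (ht : ∀ i, Two (S : Subgroup H) (E i) (W i) (a i) (b i)) {vv : Finset (Fin r) → H}
    (hv : VV V a vv) {j : Fin r} {δ : Finset (Fin r)} (hj : j ∈ δ) :
    ∃ e ∈ E j, e * vv δ * e⁻¹ = a j * b j * vv δ := by
  obtain ⟨e, he, hab⟩ := (ht j).he
  refine ⟨e, he, ?_⟩
  have h1 : vv δ = a j * vv (δ.erase j) := by
    rw [← hv.ins (δ.erase j) j (Finset.notMem_erase j δ), Finset.insert_erase hj]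
  have h2 := VV.not_mem h ht hv (Finset.notMem_erase j δ) he
  rw [h1]
  calc e * (a j * vv (δ.erase j)) * e⁻¹ = (e * a j * e⁻¹) * (e * vv (δ.erase j) * e⁻¹) := by group
    _ = b j * vv (δ.erase j) := by rw [hab, h2]
    _ = b j * (a j * a j) * vv (δ.erase j) := by rw [(ht j).aa, mul_one]
    _ = (b j * a j) * a j * vv (δ.erase j) := by group
    _ = a j * b j * (a j * vv (δ.erase j)) := by rw [← (ht j).com]; group

theorem Two.ab_ne {T E' W' : Subgroup H} {x y : H} (ht : Two T E' W' x y) : x * y ≠ 1 := by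
  intro h1
  apply ht.ab
  calc x = x * (y * y) := by rw [ht.bb, mul_one]
    _ = x * y * y := by group
    _ = y := by rw [h1, one_mul]

theorem VV.inj (h : AStr p S Z C Q P V D J R E W F)
    (ht : ∀ i, Two (S : Subgroup H) (E i) (W i) (a i) (b i)) {vv : Finset (Fin r) → H}
    (hv : VV V a vv) : Function.Injective vv := by
  have key : ∀ (δ : Finset (Fin r)) j, j ∈ δ ↔ ¬ ∀ e ∈ E j, e * vv δ * e⁻¹ = vv δ := by
    intro δ j
    constructor
    · intro hj h1
      obtain ⟨e, he, h2⟩ := VV.move h ht hv hj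
      rw [h1 e he] at h2
      exact (ht j).ab_ne (mul_eq_right.1 h2.symm)
    · intro h1
      by_contra h2
      exact h1 fun e he => VV.not_mem h ht hv h2 he
  intro δ δ' hδ
  ext j
  rw [key δ j, key δ' j, hδ]

end Cfsg.Agent.H537.P1
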