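import Cfsg.Agent.H250.P1.Defs

/-!
# The `P!`-theorem (S3046), Case A, `|F| = 2`: the natural `SL₂(2)`-module elementwise
-/

set_option autoImplicit false
set_option linter.unusedSectionVars false

open Cfsg Subgroup
open Cfsg.Agent.H230 Cfsg.Agent.H229 Cfsg.Agent.H247.P1 Cfsg.Agent.H250.P1

namespace Cfsg.Agent.H537.P1

variable {H : Type*} [Group H]

/-- `W = {1, a, b, ab}`, `E` acts as `Sym(3)`, `S ∩ E` contains the transvection with centre `a`. -/
structure Two (S E W : Subgroup H) (a b : H) : Prop where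
  ha : a ∈ W
  hb : b ∈ W
  a1 : a ≠ 1
  b1 : b ≠ 1
  ab : a ≠ b
  aa : a * a = 1
  bb : b * b = 1
  com : a * b = b * a
  all : ∀ x ∈ W, x = 1 ∨ x = a ∨ x = b ∨ x = a * b
  hx : ∃ x ∈ E, x ∈ S ∧ x * a * x⁻¹ = a ∧ x * b * x⁻¹ = a * b
  he : ∃ e ∈ E, e * a * e⁻¹ = b
  hE : E ≤ normalizer (W : Set H)

theorem two_elems {F : Type} [Field F] [Fintype F] (hF : Fintype.card F = 2) (t : F) : t = 0 ∨ t = 1 := by
  classical
  by_contra h
  push Not at h
  have h1 : ({0, 1, t} : Finset F).card = 3 := by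
    rw [Finset.card_insert_of_notMem, Finset.card_insert_of_notMem, Finset.card_singleton]
    · simp [h.2.symm]
    · simp [h.1.symm]
  have h2 := Finset.card_le_univ ({0, 1, t} : Finset F)
  omega

theorem one_add_one {F : Type} [Field F] [Fintype F] (hF : Fintype.card F = 2) : (1 : F) + 1 = 0 := by
  rcases two_elems hF ((1 : F) + 1) with h | h
  · exact h
  · exact absurd (by simpa using h) (one_ne_zero (α := F))

theorem exists_two {F : Type} [Field F] [Fintype F] {S E W : Subgroup H} (h : NatW F S E W)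
    (hF : Fintype.card F = 2) : ∃ a b, Two S E W a b := by
  obtain ⟨ρ, ψ, hρ, hact, hS, hS'⟩ := h
  have h11 := one_add_one hF
  have hneg : (-1 : F) = 1 := by
    rw [neg_eq_iff_add_eq_zero]; exact h11
  let A : ↥W := (ψ.symm ![1, 0]).toMul
  let B : ↥W := (ψ.symm ![0, 1]).toMul
  have hA : ψ (Additive.ofMul A) = ![1, 0] := by simp [A]
  have hB : ψ (Additive.ofMul B) = ![0, 1] := by simp [B]
  have hAB : ψ (Additive.ofMul (A * B)) = ![1, 1] := by
    rw [ofMul_mul, map_add, hA, hB]; ext i; fin_cases i <;> simp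
  have hBA : ψ (Additive.ofMul (B * A)) = ![1, 1] := by
    rw [ofMul_mul, map_add, hA, hB]; ext i; fin_cases i <;> simp
  have hAA : ψ (Additive.ofMul (A * A)) = 0 := by
    rw [ofMul_mul, map_add, hA]; ext i; fin_cases i <;> simp [h11]
  have hBB : ψ (Additive.ofMul (B * B)) = 0 := by
    rw [ofMul_mul, map_add, hB]; ext i; fin_cases i <;> simp [h11]
  have h1 : ψ (Additive.ofMul (1 : ↥W)) = 0 := by simp
  have inj : ∀ x y : ↥W, ψ (Additive.ofMul x) = ψ (Additive.ofMul y) → (x : H) = (y : H) := by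
    intro x y hxy
    have := ψ.injective hxy
    rw [Additive.ofMul.injective this]
  have conj : ∀ (x : ↥E) (v w : ↥W), ψ (Additive.ofMul w) =
      ((ρ x : Matrix.SpecialLinearGroup (Fin 2) F) : Matrix (Fin 2) (Fin 2) F).mulVec
        (ψ (Additive.ofMul v)) → (x : H) * (v : H) * (x : H)⁻¹ = (w : H) := by
    intro x v w hw
    obtain ⟨w', hw', hw2⟩ := hact x v
    rw [← hw', inj w' w (by rw [hw2, hw])]
  have ne : ∀ x y : ↥W, ψ (Additive.ofMul x) ≠ ψ (Additive.ofMul y) → (x : H) ≠ (y : H) := by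
    intro x y hxy h2
    exact hxy (by rw [Subtype.ext h2])
  refine ⟨(A : H), (B : H), A.2, B.2, ?_, ?_, ?_, ?_, ?_, ?_, ?_, ?_, ?_, ?_⟩
  · refine ne A 1 ?_
    rw [hA, h1]; intro h2; simpa using congrFun h2 0
  · refine ne B 1 ?_
    rw [hB, h1]; intro h2; simpa using congrFun h2 1
  · refine ne A B ?_
    rw [hA, hB]; intro h2; simpa using congrFun h2 0
  · exact inj (A * A) 1 (by rw [hAA, h1])
  · exact inj (B * B) 1 (by rw [hBB, h1])
  · exact inj (A * B) (B * A) (by rw [hAB, hBA])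
  · intro x hx
    have hv : ψ (Additive.ofMul (⟨x, hx⟩ : ↥W)) =
        ![ψ (Additive.ofMul (⟨x, hx⟩ : ↥W)) 0, ψ (Additive.ofMul (⟨x, hx⟩ : ↥W)) 1] := by
      ext i; fin_cases i <;> rfl
    rcases two_elems hF (ψ (Additive.ofMul (⟨x, hx⟩ : ↥W)) 0) with h2 | h2 <;>
      rcases two_elems hF (ψ (Additive.ofMul (⟨x, hx⟩ : ↥W)) 1) with h3 | h3 <;>
      rw [h2, h3] at hv
    · left
      refine inj ⟨x, hx⟩ 1 ?_
      rw [hv, h1]; ext i; fin_cases i <;> rfl
    · right; right; left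
      exact inj ⟨x, hx⟩ B (by rw [hv, hB])
    · right; left
      exact inj ⟨x, hx⟩ A (by rw [hv, hA])
    · right; right; right
      exact inj ⟨x, hx⟩ (A * B) (by rw [hv, hAB])
  · obtain ⟨x, hxS, hx⟩ := hS' 1
    refine ⟨x, x.2, hxS, ?_, ?_⟩
    · apply conj x A A
      rw [hx, hA]
      ext i; fin_cases i <;> simp [Matrix.mulVec, dotProduct]
    · apply conj x B (A * B)
      rw [hx, hAB, hB]
      ext i; fin_cases i <;> simp [Matrix.mulVec, dotProduct]
  · obtain ⟨e, he⟩ := hρ ⟨!![0, 1; 1, 0], by rw [Matrix.det_fin_two_of]; simp [hneg]⟩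
    refine ⟨e, e.2, ?_⟩
    apply conj e A B
    rw [he, hA, hB]
    ext i; fin_cases i <;> simp [Matrix.mulVec, dotProduct]
  · rw [le_norm_iff]
    intro k hk x hx
    obtain ⟨w, hw, -⟩ := hact ⟨k, hk⟩ ⟨x, hx⟩
    rw [← hw]
    exact w.2

/-- products over subsets of a commuting family -/
theorem exists_vv {ι : Type*} [DecidableEq ι] (a : ι → H) (hcomm : ∀ i j, a i * a j = a j * a i) :
    ∃ vv : Finset ι → H, vv ∅ = 1 ∧ ∀ δ i, i ∉ δ → vv (insert i δ) = a i * vv δ := by
  refine ⟨fun δ => δ.noncommProd a (fun i _ j _ _ => hcomm i j), ?_, ?_⟩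
  · exact Finset.noncommProd_empty _ _
  · intro δ i hi
    exact Finset.noncommProd_insert_of_notMem _ _ _ _ hi

end Cfsg.Agent.H537.P1
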